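import Groth.Agent.OpenClosed.Presheaf
import Mathlib.CategoryTheory.Sites.LocallyBijective
import Mathlib.CategoryTheory.Sites.LeftExact
import Mathlib.CategoryTheory.Limits.Types.Products
import Mathlib.CategoryTheory.Adjunction.Unique
import Mathlib.CategoryTheory.Comma.Over.Pullback

/-!
The closed complement of an open of a topos of sheaves of sets: the reflector is `X ↦ U ⊔_{U × X} X`,
it is left exact, and its unit squares are cartesian for morphisms which are isomorphisms over `U`.
-/

set_option autoImplicit false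
set_option linter.style.haveILetI false
universe u

namespace Groth.Agent.OpenClosed

open CategoryTheory CategoryTheory.Limits Opposite

variable {C : Type u} [SmallCategory C] {J : GrothendieckTopology C}

/-- Sections over `c`. -/
noncomputable abbrev secFun (c : Cᵒᵖ) : Sheaf J (Type u) ⥤ Type u :=
  sheafToPresheaf J (Type u) ⋙ (evaluation Cᵒᵖ (Type u)).obj c

variable {U : Sheaf J (Type u)}

lemma subsingleton_obj (hU : SGA4.IsOpen U) (c : Cᵒᵖ) : Subsingleton (U.obj.obj c) := by
  haveI := hU
  have h := (mono_iff_injective _).1 ((secFun c).map_mono (terminal.from U))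
  haveI : Unique ((secFun c).obj (⊤_ (Sheaf J (Type u)))) :=
    Types.isTerminalEquivUnique _ (IsTerminal.isTerminalObj (secFun c) _ terminalIsTerminal)
  exact ⟨fun a b => h (Subsingleton.elim _ _)⟩

/-- Sections of a product. -/
noncomputable def prodSec (A B : Sheaf J (Type u)) (c : Cᵒᵖ) :
    (A ⨯ B).obj.obj c ≃ A.obj.obj c × B.obj.obj c :=
  (PreservesLimitPair.iso (secFun c) A B ≪≫ Types.binaryProductIso _ _).toEquiv

lemma prodSec_fst (A B : Sheaf J (Type u)) (c : Cᵒᵖ) (s : (A ⨯ B).obj.obj c) :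
    (prodSec A B c s).1 = (prod.fst : A ⨯ B ⟶ A).hom.app c s := by
  have h := prodComparison_fst (F := secFun c) (A := A) (B := B)
  rw [← Types.binaryProductIso_hom_comp_fst] at h
  exact congr($h s)

lemma prodSec_snd (A B : Sheaf J (Type u)) (c : Cᵒᵖ) (s : (A ⨯ B).obj.obj c) :
    (prodSec A B c s).2 = (prod.snd : A ⨯ B ⟶ B).hom.app c s := by
  have h := prodComparison_snd (F := secFun c) (A := A) (B := B)
  rw [← Types.binaryProductIso_hom_comp_snd] at h
  exact congr($h s)

lemma isIso_iff_app {A B : Sheaf J (Type u)} (f : A ⟶ B) :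
    IsIso f ↔ ∀ c, Function.Bijective (f.hom.app c) := by
  rw [← isIso_iff_of_reflects_iso f (sheafToPresheaf J (Type u)), NatTrans.isIso_iff_isIso_app]
  exact forall_congr' fun c => isIso_iff_bijective _

lemma closedCompl_iff (hU : SGA4.IsOpen U) (X : Sheaf J (Type u)) :
    SGA4.closedCompl U X ↔
      ∀ c, Nonempty (U.obj.obj c) → Nonempty (X.obj.obj c) ∧ Subsingleton (X.obj.obj c) := by
  rw [SGA4.closedCompl, isIso_iff_app]
  refine forall_congr' fun c => ?_
  have hs : ((prod.fst : U ⨯ X ⟶ U).hom.app c : _ → _) = fun s => (prodSec U X c s).1 :=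
    funext fun s => (prodSec_fst U X c s).symm
  haveI := subsingleton_obj hU c
  constructor
  · intro hb ⟨t⟩
    rw [hs] at hb
    obtain ⟨s, -⟩ := hb.2 t
    exact ⟨⟨(prodSec U X c s).2⟩, ⟨fun a b => congrArg Prod.snd
      ((prodSec U X c).symm.injective (hb.1 (a₁ := (prodSec U X c).symm (t, a))
        (a₂ := (prodSec U X c).symm (t, b)) (by simp)))⟩⟩
  · intro h
    rw [hs]
    constructor
    · intro a b e
      haveI := (h ⟨(prodSec U X c a).1⟩).2
      exact (prodSec U X c).injective (Prod.ext e (Subsingleton.elim _ _))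
    · intro t
      obtain ⟨⟨x⟩, -⟩ := h ⟨t⟩
      exact ⟨(prodSec U X c).symm (t, x), by simp⟩

lemma isIso_prodMap_iff (hU : SGA4.IsOpen U) {X Y : Sheaf J (Type u)} (m : X ⟶ Y) :
    IsIso (prod.map (𝟙 U) m) ↔ ∀ c, Nonempty (U.obj.obj c) → Function.Bijective (m.hom.app c) := by
  rw [isIso_iff_app]
  refine forall_congr' fun c => ?_
  haveI := subsingleton_obj hU c
  have hs : ∀ s, prodSec U Y c ((prod.map (𝟙 U) m).hom.app c s) =
      Prod.map id (m.hom.app c) (prodSec U X c s) := fun s => Prod.ext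
    (by
      simp only [Prod.map_fst, id_eq, prodSec_fst]
      have h : (prod.map (𝟙 U) m ≫ prod.fst).hom.app c s = (prod.fst : U ⨯ X ⟶ U).hom.app c s := by
        rw [prod.map_fst, Category.comp_id]
      exact h)
    (by
      simp only [Prod.map_snd, prodSec_snd]
      have h : (prod.map (𝟙 U) m ≫ prod.snd).hom.app c s = (prod.snd ≫ m).hom.app c s := by
        rw [prod.map_snd]
      exact h)
  constructor
  · intro hb ⟨t⟩
    constructor
    · intro a b e
      have h2 := hb.1 (a₁ := (prodSec U X c).symm (t, a)) (a₂ := (prodSec U X c).symm (t, b))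
        ((prodSec U Y c).injective (by rw [hs, hs]; simp [e]))
      exact congrArg Prod.snd ((prodSec U X c).symm.injective h2)
    · intro y
      obtain ⟨s, hsy⟩ := hb.2 ((prodSec U Y c).symm (t, y))
      refine ⟨(prodSec U X c s).2, ?_⟩
      have := hs s
      rw [hsy, Equiv.apply_symm_apply] at this
      exact (congrArg Prod.snd this).symm
  · intro h
    constructor
    · intro a b e
      have h2 := congrArg (prodSec U Y c) e
      rw [hs, hs] at h2
      exact (prodSec U X c).injective (Prod.ext (congrArg Prod.fst h2 :)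
        ((h ⟨(prodSec U X c a).1⟩).1 (congrArg Prod.snd h2)))
    · intro s
      obtain ⟨x, hx⟩ := (h ⟨(prodSec U Y c s).1⟩).2 (prodSec U Y c s).2
      exact ⟨(prodSec U X c).symm ((prodSec U Y c s).1, x),
        (prodSec U Y c).injective (by rw [hs]; simp [hx])⟩

/-- Morphisms into an object of the closed complement are unique over `U`. -/
lemma closed_hom_ext {T Y : Sheaf J (Type u)} (hY : SGA4.closedCompl U Y) (t : T ⟶ U) (a b : T ⟶ Y) :
    a = b := by
  haveI : IsIso (prod.fst : U ⨯ Y ⟶ U) := hY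
  have h : prod.lift t a = prod.lift t b := by
    rw [← cancel_mono (prod.fst : U ⨯ Y ⟶ U)]
    exact (prod.lift_fst t a).trans (prod.lift_fst t b).symm
  exact (prod.lift_snd t a).symm.trans ((congrArg (· ≫ prod.snd) h).trans (prod.lift_snd t b))

variable (U)

/-- `X ↦ a (P X)`. -/
noncomputable def clFun : Sheaf J (Type u) ⥤ Sheaf J (Type u) :=
  sheafToPresheaf J (Type u) ⋙ pFun U.obj ⋙ presheafToSheaf J (Type u)

/-- The unit `X ⟶ a (P X)`. -/
noncomputable def clEta (X : Sheaf J (Type u)) : X ⟶ (clFun U).obj X :=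
  ⟨pEta U.obj X.obj ≫ toSheafify J (pPre U.obj X.obj)⟩

/-- The point `U ⟶ a (P X)`. -/
noncomputable def clPt (X : Sheaf J (Type u)) : U ⟶ (clFun U).obj X :=
  ⟨pPt U.obj X.obj ≫ toSheafify J (pPre U.obj X.obj)⟩

variable {U}

lemma clEta_naturality {X Y : Sheaf J (Type u)} (m : X ⟶ Y) :
    clEta U X ≫ (clFun U).map m = m ≫ clEta U Y := by
  apply Sheaf.hom_ext
  show (pEta U.obj X.obj ≫ toSheafify J _) ≫ sheafifyMap J ((pFun U.obj).map m.hom) =
    m.hom ≫ pEta U.obj Y.obj ≫ toSheafify J _
  rw [Category.assoc, ← toSheafify_naturality, ← Category.assoc, pEta_naturality]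
  exact Category.assoc _ _ _

variable (hU : SGA4.IsOpen U)
include hU

lemma closedCompl_clFun (X : Sheaf J (Type u)) : SGA4.closedCompl U ((clFun U).obj X) := by
  rw [closedCompl_iff hU]
  intro c hc
  obtain ⟨t⟩ := hc
  refine ⟨⟨(clPt U X).hom.app c t⟩, ⟨fun a b => ?_⟩⟩
  let η := toSheafify J (pPre U.obj X.obj)
  obtain ⟨c⟩ := c
  have hS := J.intersection_covering (Presheaf.imageSieve_mem J η a) (Presheaf.imageSieve_mem J η b)
  refine ((isSheaf_iff_isSheaf_of_type J _).1 ((clFun U).obj X).property _ hS).isSeparatedFor.ext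
    fun d f hf => ?_
  obtain ⟨⟨p, hp⟩, q, hq⟩ := hf
  haveI : Nonempty (U.obj.obj (op d)) := ⟨U.obj.map f.op t⟩
  exact hp.symm.trans ((congrArg _ (Subsingleton.elim (α := PObj U.obj X.obj (op d)) p q)).trans hq)

omit hU in
lemma comm_clPt (X : Sheaf J (Type u)) :
    (prod.fst : U ⨯ X ⟶ U) ≫ clPt U X = prod.snd ≫ clEta U X := by
  apply Sheaf.hom_ext
  ext c s
  refine congrArg ((toSheafify J (pPre U.obj X.obj)).app c) ?_
  haveI : Nonempty (U.obj.obj c) := ⟨(prod.fst : U ⨯ X ⟶ U).hom.app c s⟩
  exact Subsingleton.elim (α := PObj U.obj X.obj c) _ _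

omit hU in
lemma clFun_hom_ext {X Z : Sheaf J (Type u)} (a b : (clFun U).obj X ⟶ Z) (h₁ : clPt U X ≫ a = clPt U X ≫ b)
    (h₂ : clEta U X ≫ a = clEta U X ≫ b) : a = b :=
  Sheaf.hom_ext (sheafify_hom_ext J _ _ Z.property (pHom_ext U.obj _ _
    ((Category.assoc _ _ _).symm.trans ((congrArg (fun k => k.hom) h₁).trans (Category.assoc _ _ _)))
    ((Category.assoc _ _ _).symm.trans ((congrArg (fun k => k.hom) h₂).trans (Category.assoc _ _ _)))))

lemma exists_clDesc {X Z : Sheaf J (Type u)} (h : U ⟶ Z) (g : X ⟶ Z)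
    (e : (prod.fst : U ⨯ X ⟶ U) ≫ h = prod.snd ≫ g) :
    ∃ a : (clFun U).obj X ⟶ Z, clPt U X ≫ a = h ∧ clEta U X ≫ a = g := by
  obtain ⟨a, h₁, h₂⟩ := exists_pDesc U.obj (subsingleton_obj hU) h.hom g.hom (fun c t x => by
    have h3 : h.hom.app c ((prod.fst : U ⨯ X ⟶ U).hom.app c ((prodSec U X c).symm (t, x))) =
        g.hom.app c ((prod.snd : U ⨯ X ⟶ X).hom.app c ((prodSec U X c).symm (t, x))) :=
      congr($(e).hom.app c ((prodSec U X c).symm (t, x)))
    rw [← prodSec_fst, ← prodSec_snd, Equiv.apply_symm_apply] at h3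
    exact h3)
  refine ⟨⟨sheafifyLift J a Z.property⟩, Sheaf.hom_ext ?_, Sheaf.hom_ext ?_⟩
  · show (pPt U.obj X.obj ≫ toSheafify J _) ≫ sheafifyLift J a Z.property = h.hom
    rw [Category.assoc, toSheafify_sheafifyLift, h₁]
  · show (pEta U.obj X.obj ≫ toSheafify J _) ≫ sheafifyLift J a Z.property = g.hom
    rw [Category.assoc, toSheafify_sheafifyLift, h₂]

/-- `a (P X)` is the pushout `U ⊔_{U × X} X`. -/
theorem isPushout_clFun (X : Sheaf J (Type u)) :
    IsPushout (prod.fst : U ⨯ X ⟶ U) (prod.snd : U ⨯ X ⟶ X) (clPt U X) (clEta U X) := by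
  refine IsPushout.of_isColimit (c := PushoutCocone.mk (clPt U X) (clEta U X) (comm_clPt X))
    (PushoutCocone.IsColimit.mk (comm_clPt X)
      (fun s => (exists_clDesc hU s.inl s.inr s.condition).choose)
      (fun s => (exists_clDesc hU s.inl s.inr s.condition).choose_spec.1)
      (fun s => (exists_clDesc hU s.inl s.inr s.condition).choose_spec.2)
      (fun s a h₁ h₂ => ?_))
  obtain ⟨e₁, e₂⟩ := (exists_clDesc hU s.inl s.inr s.condition).choose_spec
  exact clFun_hom_ext a _ (h₁.trans e₁.symm) (h₂.trans e₂.symm)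

lemma exists_desc_closed {X Y : Sheaf J (Type u)} (hY : SGA4.closedCompl U Y) (g : X ⟶ Y) :
    ∃! a : (clFun U).obj X ⟶ Y, clEta U X ≫ a = g := by
  haveI : IsIso (prod.fst : U ⨯ Y ⟶ U) := hY
  obtain ⟨a, -, ha⟩ := exists_clDesc hU (inv (prod.fst : U ⨯ Y ⟶ U) ≫ prod.snd) g
    (closed_hom_ext hY prod.fst _ _)
  exact ⟨a, ha, fun b hb => clFun_hom_ext b a (closed_hom_ext hY (𝟙 U) _ _) (hb.trans ha.symm)⟩

/-- The reflector into the closed complement. -/
noncomputable def refl₀ : Sheaf J (Type u) ⥤ (SGA4.closedCompl U).FullSubcategory :=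
  ObjectProperty.lift _ (clFun U) (closedCompl_clFun hU)

/-- `refl₀ ⊣ ι`. -/
noncomputable def adj₀ : refl₀ hU ⊣ (SGA4.closedCompl U).ι :=
  Adjunction.mkOfHomEquiv
    { homEquiv := fun X Y =>
        { toFun := fun f => clEta U X ≫ f.hom
          invFun := fun g => ObjectProperty.homMk (exists_desc_closed hU Y.property g).choose
          left_inv := fun f => ObjectProperty.hom_ext _
            ((exists_desc_closed hU Y.property (clEta U X ≫ f.hom)).choose_spec.2 f.hom rfl).symm
          right_inv := fun g => (exists_desc_closed hU Y.property g).choose_spec.1 }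
      homEquiv_naturality_left_symm := fun {X X' Y} f g => ObjectProperty.hom_ext _
        (((exists_desc_closed hU Y.property (f ≫ g)).choose_spec.2
          ((clFun U).map f ≫ (exists_desc_closed hU Y.property g).choose) (by
            show clEta U X ≫ _ = f ≫ g
            rw [← Category.assoc, clEta_naturality, Category.assoc,
              (exists_desc_closed hU Y.property g).choose_spec.1])).symm)
      homEquiv_naturality_right := fun {X Y Y'} f g => by
        show clEta U X ≫ f.hom ≫ g.hom = (clEta U X ≫ f.hom) ≫ g.hom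
        exact (Category.assoc _ _ _).symm }

theorem preservesFiniteLimits_refl₀ : PreservesFiniteLimits (refl₀ hU) := ⟨fun K _ _ => by
  haveI := preservesFiniteLimits_pFun U.obj
  haveI : PreservesFiniteLimits (clFun U) := by
    haveI : PreservesFiniteLimits (sheafToPresheaf J (Type u)) :=
      ⟨fun _ _ _ => inferInstance⟩
    haveI := comp_preservesFiniteLimits (pFun U.obj) (presheafToSheaf J (Type u))
    exact comp_preservesFiniteLimits (sheafToPresheaf J (Type u)) (pFun U.obj ⋙ presheafToSheaf J (Type u))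
  haveI : PreservesLimitsOfShape K (refl₀ hU ⋙ (SGA4.closedCompl U).ι) :=
    inferInstanceAs (PreservesLimitsOfShape K (clFun U))
  exact preservesLimitsOfShape_of_reflects_of_preserves _ (SGA4.closedCompl U).ι⟩

omit hU in
/-- The cartesian squares. -/
theorem isPullback_clEta {X Y : Sheaf J (Type u)} (m : X ⟶ Y)
    (hm : ∀ c, Nonempty (U.obj.obj c) → Function.Bijective (m.hom.app c)) :
    IsPullback m (clEta U X) (clEta U Y) ((clFun U).map m) := by
  have h := (isPullback_pEta U.obj m.hom hm).map (presheafToSheaf J (Type u))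
  let e : ∀ Z : Sheaf J (Type u), (presheafToSheaf J (Type u)).obj Z.obj ≅ Z := fun Z =>
    (asIso (sheafificationAdjunction J (Type u)).counit).app Z
  have key : ∀ Z : Sheaf J (Type u),
      (presheafToSheaf J (Type u)).map (pEta U.obj Z.obj) = (e Z).hom ≫ clEta U Z := fun Z => by
    apply Sheaf.hom_ext
    refine sheafify_hom_ext J _ _ ((clFun U).obj Z).property ?_
    show toSheafify J Z.obj ≫ sheafifyMap J (pEta U.obj Z.obj) =
      toSheafify J Z.obj ≫ ((sheafificationAdjunction J (Type u)).counit.app Z).hom ≫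
        pEta U.obj Z.obj ≫ toSheafify J _
    rw [sheafificationAdjunction_counit_app_val, toSheafify_sheafifyLift_assoc, Category.id_comp,
      toSheafify_naturality]
    rfl
  exact IsPullback.of_iso h (e X) (e Y) (Iso.refl _) (Iso.refl _)
    ((sheafificationAdjunction J (Type u)).counit.naturality m)
    ((Category.comp_id _).trans (key X))
    ((Category.comp_id _).trans (key Y))
    ((Category.comp_id _).trans (Category.id_comp _).symm)

/-- An object is in the closed complement iff its unit is an isomorphism. -/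
theorem isIso_clEta_iff (X : Sheaf J (Type u)) : IsIso (clEta U X) ↔ SGA4.closedCompl U X := by
  constructor
  · intro h
    rw [closedCompl_iff hU]
    intro c hc
    have hb := ((isIso_iff_app (clEta U X)).1 h) c
    obtain ⟨⟨p⟩, hp⟩ := (closedCompl_iff hU _).1 (closedCompl_clFun hU X) c hc
    exact ⟨⟨(hb.2 p).choose⟩, ⟨fun a b => hb.1 (Subsingleton.elim _ _)⟩⟩
  · intro hX
    obtain ⟨a, ha, -⟩ := exists_desc_closed hU hX (𝟙 X)
    refine ⟨a, ha, ?_⟩
    exact clFun_hom_ext _ _ (closed_hom_ext (closedCompl_clFun hU X) (𝟙 U) _ _) (by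
      rw [← Category.assoc, ha, Category.id_comp, Category.comp_id])

variable (L : Sheaf J (Type u) ⥤ (SGA4.closedCompl U).FullSubcategory)
  (adj : L ⊣ (SGA4.closedCompl U).ι)
include adj

theorem preservesFiniteLimits_of_adj : PreservesFiniteLimits L :=
  haveI := preservesFiniteLimits_refl₀ hU
  preservesFiniteLimits_of_natIso (Adjunction.leftAdjointUniq (adj₀ hU) adj)

theorem isPullback_unit_of_bijective {X Y : Sheaf J (Type u)} (m : X ⟶ Y)
    (hm : ∀ c, Nonempty (U.obj.obj c) → Function.Bijective (m.hom.app c)) :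
    IsPullback m (adj.unit.app X) (adj.unit.app Y) ((SGA4.closedCompl U).ι.map (L.map m)) := by
  let θ := Adjunction.leftAdjointUniq (adj₀ hU) adj
  have h0 : ∀ Z, adj.unit.app Z = clEta U Z ≫ (θ.hom.app Z).hom := fun Z => by
    rw [← Adjunction.unit_leftAdjointUniq_hom_app (adj₀ hU) adj Z]
    exact congrArg (· ≫ _) (show (adj₀ hU).unit.app Z = clEta U Z by
      show clEta U Z ≫ 𝟙 ((clFun U).obj Z) = _
      exact Category.comp_id _)
  exact IsPullback.of_iso (isPullback_clEta m hm) (Iso.refl X) (Iso.refl Y)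
    ((SGA4.closedCompl U).ι.mapIso (θ.app X)) ((SGA4.closedCompl U).ι.mapIso (θ.app Y))
    ((Category.comp_id _).trans (Category.id_comp _).symm)
    ((h0 X).symm.trans (Category.id_comp _).symm)
    ((h0 Y).symm.trans (Category.id_comp _).symm)
    (congrArg (fun k => k.hom) (θ.hom.naturality m))

omit adj in
lemma isIso_star_map_iff {X Y : Sheaf J (Type u)} (m : X ⟶ Y) :
    IsIso ((Over.star U).map m) ↔ ∀ c, Nonempty (U.obj.obj c) → Function.Bijective (m.hom.app c) := by
  rw [← isIso_iff_of_reflects_iso ((Over.star U).map m) (Over.forget U), ← isIso_prodMap_iff hU]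
  show IsIso ((Over.star U).map m).left ↔ _
  exact Iff.of_eq (congrArg _ (Over.star_map_left U m))

end Groth.Agent.OpenClosed
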