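import Groth.Agent.OpenClosed.Basic
import Mathlib.CategoryTheory.Adjunction.Triple
import Mathlib.CategoryTheory.Adjunction.FullyFaithful

/-!
A topos is glued from an open subtopos and its closed complement.
-/

set_option autoImplicit false
set_option linter.style.haveILetI false
universe u

namespace Groth.Agent.OpenClosed

open CategoryTheory CategoryTheory.Limits Opposite

variable {C : Type u} [SmallCategory C] {J : GrothendieckTopology C} {U : Sheaf J (Type u)}

lemma full_forget_of_isOpen (hU : SGA4.IsOpen U) : (Over.forget U).Full :=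
  ⟨fun {X Y} f => ⟨Over.homMk f (by
    haveI := hU
    rw [← cancel_mono (terminal.from U)]
    exact terminalIsTerminal.hom_ext _ _), rfl⟩⟩

lemma bijective_app_of_closed (hU : SGA4.IsOpen U) {X Y : Sheaf J (Type u)}
    (hX : SGA4.closedCompl U X) (hY : SGA4.closedCompl U Y) (m : X ⟶ Y) (c : Cᵒᵖ)
    (hc : Nonempty (U.obj.obj c)) : Function.Bijective (m.hom.app c) := by
  obtain ⟨⟨x⟩, hx⟩ := (closedCompl_iff hU X).1 hX c hc
  obtain ⟨-, hy⟩ := (closedCompl_iff hU Y).1 hY c hc
  exact ⟨fun a b _ => Subsingleton.elim a b, fun b => ⟨x, Subsingleton.elim _ _⟩⟩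

variable (hU : SGA4.IsOpen U) [(Over.star U).IsLeftAdjoint]
  (L : Sheaf J (Type u) ⥤ (SGA4.closedCompl U).FullSubcategory) (adj : L ⊣ (SGA4.closedCompl U).ι)

/-- The functor to the glued category. -/
noncomputable def glueFun :
    Sheaf J (Type u) ⥤
      Comma (𝟭 (SGA4.closedCompl U).FullSubcategory) ((Over.star U).rightAdjoint ⋙ L) where
  obj X := { left := L.obj X, right := (Over.star U).obj X,
             hom := L.map ((Adjunction.ofIsLeftAdjoint (Over.star U)).unit.app X) }
  map {X Y} m :=
    { left := L.map m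
      right := (Over.star U).map m
      w := by
        show L.map m ≫ L.map ((Adjunction.ofIsLeftAdjoint (Over.star U)).unit.app Y) =
          L.map ((Adjunction.ofIsLeftAdjoint (Over.star U)).unit.app X) ≫
            L.map ((Over.star U).rightAdjoint.map ((Over.star U).map m))
        rw [← L.map_comp, ← L.map_comp]
        exact congrArg _ ((Adjunction.ofIsLeftAdjoint (Over.star U)).unit.naturality m) }
  map_id X := by ext <;> simp
  map_comp f g := by ext <;> simp

include hU

lemma isIso_counit : IsIso (Adjunction.ofIsLeftAdjoint (Over.star U)).counit := by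
  haveI := full_forget_of_isOpen hU
  let t : Adjunction.Triple (Over.forget U) (Over.star U) (Over.star U).rightAdjoint :=
    ⟨Over.forgetAdjStar U, Adjunction.ofIsLeftAdjoint (Over.star U)⟩
  have hff := t.fullyFaithfulEquiv (Functor.FullyFaithful.ofFullyFaithful (Over.forget U))
  haveI := hff.full
  haveI := hff.faithful
  exact inferInstanceAs (IsIso (Adjunction.ofIsLeftAdjoint (Over.star U)).counit)

lemma bijective_unit (X : Sheaf J (Type u)) (c : Cᵒᵖ) (hc : Nonempty (U.obj.obj c)) :
    Function.Bijective (((Adjunction.ofIsLeftAdjoint (Over.star U)).unit.app X).hom.app c) := by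
  haveI := isIso_counit hU
  have htri := (Adjunction.ofIsLeftAdjoint (Over.star U)).left_triangle_components X
  haveI : IsIso ((Over.star U).map ((Adjunction.ofIsLeftAdjoint (Over.star U)).unit.app X)) := by
    haveI : IsIso ((Adjunction.ofIsLeftAdjoint (Over.star U)).counit.app ((Over.star U).obj X)) := inferInstance
    exact @IsIso.of_isIso_fac_right _ _ _ _ _ _ _ _ this (IsIso.id _) htri
  exact (isIso_star_map_iff hU _).1 inferInstance c hc

include adj

theorem faithful_glueFun : (glueFun L).Faithful := ⟨fun {X Y} m m' h => by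
  have hP := isPullback_unit_of_bijective hU L adj _ (bijective_unit hU Y)
  have h₁ : L.map m = L.map m' := congrArg (fun k => k.left) h
  have h₂ : (Over.star U).map m = (Over.star U).map m' := congrArg (fun k => k.right) h
  apply hP.hom_ext
  · exact ((Adjunction.ofIsLeftAdjoint (Over.star U)).unit.naturality m).trans
      ((congrArg (fun k => (Adjunction.ofIsLeftAdjoint (Over.star U)).unit.app X ≫
        (Over.star U).rightAdjoint.map k) h₂).trans
        ((Adjunction.ofIsLeftAdjoint (Over.star U)).unit.naturality m').symm)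
  · exact (adj.unit.naturality m).trans
      ((congrArg (fun k => adj.unit.app X ≫ (SGA4.closedCompl U).ι.map k) h₁).trans
        (adj.unit.naturality m').symm)⟩

theorem full_glueFun : (glueFun L).Full := ⟨fun {X Y} k => by
  let ρ := (Over.star U).rightAdjoint
  let u := (Adjunction.ofIsLeftAdjoint (Over.star U)).unit
  have hP := isPullback_unit_of_bijective hU L adj _ (bijective_unit hU Y)
  have hk : k.left ≫ L.map (u.app Y) = L.map (u.app X) ≫ L.map (ρ.map k.right) := k.w
  let a : X ⟶ ρ.obj ((Over.star U).obj Y) := u.app X ≫ ρ.map k.right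
  let b : X ⟶ (SGA4.closedCompl U).ι.obj (L.obj Y) := adj.unit.app X ≫ (SGA4.closedCompl U).ι.map k.left
  have hw : a ≫ adj.unit.app (ρ.obj ((Over.star U).obj Y)) = b ≫ (SGA4.closedCompl U).ι.map (L.map (u.app Y)) := by
    refine (adj.unit.naturality a).trans ?_
    show adj.unit.app X ≫ (SGA4.closedCompl U).ι.map (L.map (u.app X ≫ ρ.map k.right)) =
      (adj.unit.app X ≫ (SGA4.closedCompl U).ι.map k.left) ≫ (SGA4.closedCompl U).ι.map (L.map (u.app Y))
    rw [Category.assoc, ← Functor.map_comp]
    exact congrArg (fun t => adj.unit.app X ≫ (SGA4.closedCompl U).ι.map t)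
      ((L.map_comp _ _).trans hk.symm)
  refine ⟨hP.lift a b hw, ?_⟩
  apply CommaMorphism.ext
  · show L.map (hP.lift a b hw) = k.left
    apply (adj.homEquiv _ _).injective
    rw [Adjunction.homEquiv_unit, Adjunction.homEquiv_unit]
    exact (adj.unit.naturality _).symm.trans (hP.lift_snd a b hw)
  · show (Over.star U).map (hP.lift a b hw) = k.right
    apply ((Adjunction.ofIsLeftAdjoint (Over.star U)).homEquiv _ _).injective
    rw [Adjunction.homEquiv_unit, Adjunction.homEquiv_unit]
    exact ((Adjunction.ofIsLeftAdjoint (Over.star U)).unit.naturality _).symm.trans (hP.lift_fst a b hw)⟩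

theorem essSurj_glueFun : (glueFun L).EssSurj := ⟨fun W => by
  haveI := preservesFiniteLimits_of_adj hU L adj
  haveI : (Over.star U).IsRightAdjoint := (Over.forgetAdjStar U).isRightAdjoint
  haveI : (SGA4.closedCompl U).ι.Full := inferInstance
  haveI := isIso_counit hU
  haveI : IsIso adj.counit := inferInstance
  let ρ := (Over.star U).rightAdjoint
  let a2 := Adjunction.ofIsLeftAdjoint (Over.star U)
  let ι := (SGA4.closedCompl U).ι
  let φ : W.left ⟶ L.obj (ρ.obj W.right) := W.hom
  let f := adj.unit.app (ρ.obj W.right)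
  let p : pullback f (ι.map φ) ⟶ ρ.obj W.right := pullback.fst f (ι.map φ)
  let q : pullback f (ι.map φ) ⟶ ι.obj W.left := pullback.snd f (ι.map φ)
  have sq : IsPullback p q f (ι.map φ) := IsPullback.of_hasPullback f (ι.map φ)
  haveI : IsIso ((Over.star U).map (ι.map φ)) := (isIso_star_map_iff hU _).2 fun c hc =>
    bijective_app_of_closed hU W.left.property (L.obj (ρ.obj W.right)).property _ c hc
  haveI : IsIso (L.map f) := by
    have h := adj.left_triangle_components (ρ.obj W.right)
    haveI : IsIso (adj.counit.app (L.obj (ρ.obj W.right))) := inferInstance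
    exact @IsIso.of_isIso_fac_right _ _ _ _ _ _ _ _ this (IsIso.id _) h
  haveI hp : IsIso ((Over.star U).map p) := (sq.map (Over.star U)).isIso_fst_of_isIso
  haveI hq : IsIso (L.map q) := (sq.map L).isIso_snd_of_isIso
  refine ⟨pullback f (ι.map φ), ⟨Comma.isoMk ((@asIso _ _ _ _ _ hq) ≪≫ (asIso adj.counit).app W.left)
    ((@asIso _ _ _ _ _ hp) ≪≫ (asIso a2.counit).app W.right) ?_⟩⟩
  show (L.map q ≫ adj.counit.app W.left) ≫ φ =
    L.map (a2.unit.app _) ≫ L.map (ρ.map ((Over.star U).map p ≫ a2.counit.app W.right))
  have h1 : a2.unit.app _ ≫ ρ.map ((Over.star U).map p ≫ a2.counit.app W.right) = p := by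
    rw [Functor.map_comp]
    exact (Category.assoc _ _ _).symm.trans
      ((congrArg (· ≫ ρ.map (a2.counit.app W.right)) (a2.unit.naturality p).symm).trans
        ((Category.assoc _ _ _).trans ((congrArg (p ≫ ·) (a2.right_triangle_components W.right)).trans
          (Category.comp_id _))))
  rw [← L.map_comp, h1, Category.assoc]
  have h3 := adj.counit.naturality φ
  have h4 : L.map p ≫ L.map f = L.map q ≫ L.map (ι.map φ) := by rw [← L.map_comp, ← L.map_comp, sq.w]
  exact ((congrArg (L.map q ≫ ·) h3.symm).trans ((Category.assoc _ _ _).symm.trans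
    ((congrArg (· ≫ adj.counit.app (L.obj (ρ.obj W.right))) h4.symm).trans
      ((Category.assoc _ _ _).trans ((congrArg (L.map p ≫ ·)
        (adj.left_triangle_components (ρ.obj W.right))).trans (Category.comp_id _))))))⟩

theorem nonempty_equivalence :
    Nonempty (Sheaf J (Type u) ≌
      Comma (𝟭 (SGA4.closedCompl U).FullSubcategory) ((Over.star U).rightAdjoint ⋙ L)) :=
  haveI := faithful_glueFun hU L adj
  haveI := full_glueFun hU L adj
  haveI := essSurj_glueFun hU L adj
  haveI : (glueFun (U := U) L).IsEquivalence := { }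
  ⟨(glueFun (U := U) L).asEquivalence⟩

end Groth.Agent.OpenClosed
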