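import Groth.Prelude.Def_SGA4a
import Mathlib.CategoryTheory.Limits.FunctorCategory.Basic
import Mathlib.CategoryTheory.Limits.Types.Limits
import Mathlib.CategoryTheory.Limits.Shapes.Pullback.IsPullback.Basic

/-!
Presheaf level of the closed complement of an open: `P X` is `X` with the values over `U` collapsed
to a point. It is left exact.
-/

set_option autoImplicit false
set_option linter.style.haveILetI false
universe u

namespace Groth.Agent.OpenClosed

open CategoryTheory CategoryTheory.Limits Opposite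

variable {C : Type u} [SmallCategory C] (U : Cᵒᵖ ⥤ Type u)

/-- The value of the collapsed presheaf. -/
def PObj (X : Cᵒᵖ ⥤ Type u) (c : Cᵒᵖ) : Type u :=
  PLift (Nonempty (U.obj c)) ⊕ { _x : X.obj c // IsEmpty (U.obj c) }

variable {U}

instance subsingleton_pObj {X : Cᵒᵖ ⥤ Type u} {c : Cᵒᵖ} [h : Nonempty (U.obj c)] :
    Subsingleton (PObj U X c) := ⟨by
  rintro (⟨⟨a⟩⟩ | ⟨x, hx⟩) (⟨⟨b⟩⟩ | ⟨y, hy⟩)
  · rfl
  · exact (hy.false h.some).elim
  · exact (hx.false h.some).elim
  · exact (hx.false h.some).elim⟩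

lemma pObj_cases {X : Cᵒᵖ ⥤ Type u} {c : Cᵒᵖ} (s : PObj U X c) :
    Nonempty (U.obj c) ∨ ∃ (h : IsEmpty (U.obj c)) (x : X.obj c), s = Sum.inr ⟨x, h⟩ := by
  rcases s with ⟨⟨h⟩⟩ | ⟨x, h⟩
  · exact Or.inl h
  · exact Or.inr ⟨h, x, rfl⟩

open Classical in
/-- The component of `X → P X`. -/
noncomputable def etaFun {X : Cᵒᵖ ⥤ Type u} {c : Cᵒᵖ} (x : X.obj c) : PObj U X c :=
  if h : Nonempty (U.obj c) then Sum.inl ⟨h⟩ else Sum.inr ⟨x, not_nonempty_iff.1 h⟩

lemma etaFun_inr {X : Cᵒᵖ ⥤ Type u} {c : Cᵒᵖ} (h : IsEmpty (U.obj c)) (x : X.obj c) :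
    (Sum.inr ⟨x, h⟩ : PObj U X c) = etaFun x := by
  rw [etaFun, dif_neg (not_nonempty_iff.2 h)]

open Classical in
/-- Restriction maps of the collapsed presheaf. -/
noncomputable def pRes {X : Cᵒᵖ ⥤ Type u} {c d : Cᵒᵖ} (f : c ⟶ d) (s : PObj U X c) : PObj U X d :=
  match s with
  | Sum.inl ⟨h⟩ => Sum.inl ⟨h.map (U.map f)⟩
  | Sum.inr x => etaFun (X.map f x.1)

lemma pRes_eta {X : Cᵒᵖ ⥤ Type u} {c d : Cᵒᵖ} (f : c ⟶ d) (x : X.obj c) :
    pRes f (etaFun (U := U) x) = etaFun (X.map f x) := by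
  rcases isEmpty_or_nonempty (U.obj c) with hc | hc
  · rw [← etaFun_inr hc x]
    rfl
  · haveI : Nonempty (U.obj d) := hc.map (U.map f)
    exact Subsingleton.elim _ _

variable (U)

/-- The collapsed presheaf. -/
noncomputable def pPre (X : Cᵒᵖ ⥤ Type u) : Cᵒᵖ ⥤ Type u where
  obj c := PObj U X c
  map f := ↾(pRes f)
  map_id c := by
    ext s
    rcases pObj_cases s with h | ⟨h, x, rfl⟩
    · exact Subsingleton.elim (α := PObj U X c) _ _
    · rw [etaFun_inr h x]
      show pRes (𝟙 c) (etaFun x) = etaFun x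
      rw [pRes_eta]
      simp
  map_comp {a b c} f g := by
    ext s
    rcases pObj_cases s with h | ⟨h, x, rfl⟩
    · haveI : Nonempty (U.obj c) := h.map (U.map (f ≫ g))
      exact Subsingleton.elim (α := PObj U X c) _ _
    · rw [etaFun_inr h x]
      show pRes (f ≫ g) (etaFun x) = pRes g (pRes f (etaFun x))
      rw [pRes_eta, pRes_eta, pRes_eta]
      simp

/-- `X ⟶ P X`. -/
noncomputable def pEta (X : Cᵒᵖ ⥤ Type u) : X ⟶ pPre U X where
  app _ := ↾etaFun
  naturality _ _ f := by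
    ext x
    exact (pRes_eta f x).symm

/-- `U ⟶ P X`. -/
noncomputable def pPt (X : Cᵒᵖ ⥤ Type u) : U ⟶ pPre U X where
  app _ := ↾fun a => Sum.inl ⟨⟨a⟩⟩
  naturality _ _ _ := by ext; rfl

/-- Functoriality of `P`. -/
def pMapFun {X Y : Cᵒᵖ ⥤ Type u} (m : X ⟶ Y) (c : Cᵒᵖ) : PObj U X c → PObj U Y c
  | Sum.inl h => Sum.inl h
  | Sum.inr x => Sum.inr ⟨m.app c x.1, x.2⟩

lemma pMapFun_eta {X Y : Cᵒᵖ ⥤ Type u} (m : X ⟶ Y) (c : Cᵒᵖ) (x : X.obj c) :
    pMapFun U m c (etaFun x) = etaFun (m.app c x) := by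
  rcases isEmpty_or_nonempty (U.obj c) with hc | hc
  · rw [← etaFun_inr hc x, ← etaFun_inr hc (m.app c x)]
    rfl
  · exact Subsingleton.elim _ _

/-- `P` as a functor. -/
noncomputable def pFun : (Cᵒᵖ ⥤ Type u) ⥤ (Cᵒᵖ ⥤ Type u) where
  obj := pPre U
  map {X Y} m :=
    { app := fun c => ↾(pMapFun U m c)
      naturality := fun {c d} f => by
        ext s
        rcases pObj_cases s with h | ⟨h, x, rfl⟩
        · haveI : Nonempty (U.obj d) := h.map (U.map f)
          exact Subsingleton.elim (α := PObj U Y d) _ _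
        · rw [etaFun_inr h x]
          show pMapFun U m d (pRes f (etaFun x)) = pRes f (pMapFun U m c (etaFun x))
          rw [pRes_eta, pMapFun_eta, pMapFun_eta, pRes_eta]
          exact congrArg _ (congr($(m.naturality f) x)) }
  map_id X := by
    ext c s
    rcases s with _ | _ <;> rfl
  map_comp _ _ := by
    ext c s
    rcases s with _ | _ <;> rfl

lemma pEta_naturality {X Y : Cᵒᵖ ⥤ Type u} (m : X ⟶ Y) :
    pEta U X ≫ (pFun U).map m = m ≫ pEta U Y := by
  ext c x
  exact pMapFun_eta U m c x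

lemma isIso_pEta_app {X : Cᵒᵖ ⥤ Type u} {c : Cᵒᵖ} (h : IsEmpty (U.obj c)) :
    IsIso ((pEta U X).app c) := by
  rw [isIso_iff_bijective]
  constructor
  · intro a b e
    have e' : (etaFun a : PObj U X c) = etaFun b := e
    rw [← etaFun_inr h a, ← etaFun_inr h b] at e'
    exact congrArg Subtype.val (Sum.inr_injective e')
  · intro s
    rcases pObj_cases s with h' | ⟨h', x, rfl⟩
    · exact (h.false h'.some).elim
    · exact ⟨x, (etaFun_inr h' x).symm⟩

lemma pHom_ext {X Z : Cᵒᵖ ⥤ Type u} (a b : pPre U X ⟶ Z) (h₁ : pPt U X ≫ a = pPt U X ≫ b)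
    (h₂ : pEta U X ≫ a = pEta U X ≫ b) : a = b := by
  ext c s
  rcases pObj_cases s with ⟨⟨t⟩⟩ | ⟨h, x, rfl⟩
  · obtain rfl : s = (Sum.inl ⟨⟨t⟩⟩ : PObj U X c) := by
      haveI : Nonempty (U.obj c) := ⟨t⟩
      exact Subsingleton.elim (α := PObj U X c) _ _
    exact congr($(h₁).app c t)
  · rw [etaFun_inr h x]
    exact congr($(h₂).app c x)

variable (hU : ∀ c, Subsingleton (U.obj c))
include hU

/-- The universal property of `P X` as the pushout of `U ← U × X → X`. -/
lemma exists_pDesc {X Z : Cᵒᵖ ⥤ Type u} (h : U ⟶ Z) (g : X ⟶ Z)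
    (e : ∀ c (t : U.obj c) (x : X.obj c), h.app c t = g.app c x) :
    ∃ a : pPre U X ⟶ Z, pPt U X ≫ a = h ∧ pEta U X ≫ a = g := by
  let F : ∀ c, PObj U X c → Z.obj c := fun c s =>
    match s with
    | Sum.inl ⟨n⟩ => h.app c n.some
    | Sum.inr x => g.app c x.1
  have Fpt : ∀ c (t : U.obj c) (s : PObj U X c), F c s = h.app c t := fun c t s => by
    rcases s with ⟨⟨n⟩⟩ | ⟨x, hx⟩
    · exact congrArg _ ((hU c).elim _ _)
    · exact (hx.false t).elim
  have Feta : ∀ c (x : X.obj c), F c (etaFun x) = g.app c x := fun c x => by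
    rcases isEmpty_or_nonempty (U.obj c) with hc | ⟨⟨t⟩⟩
    · rw [← etaFun_inr hc x]
    · rw [Fpt c t, e c t x]
  refine ⟨{ app := fun c => ↾(F c), naturality := ?_ }, ?_, ?_⟩
  · intro c d f
    ext s
    show F d (pRes f s) = Z.map f (F c s)
    rcases pObj_cases s with ⟨⟨t⟩⟩ | ⟨hc, x, rfl⟩
    · rw [Fpt d (U.map f t), Fpt c t]
      exact congr($(h.naturality f) t)
    · rw [etaFun_inr hc x, pRes_eta, Feta, Feta]
      exact congr($(g.naturality f) x)
  · ext c t
    exact Fpt c t (Sum.inl ⟨⟨t⟩⟩)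
  · ext c x
    exact Feta c x

omit hU in
/-- `P` preserves finite limits. -/
theorem preservesFiniteLimits_pFun : PreservesFiniteLimits (pFun U) := ⟨fun J _ _ => by
  refine preservesLimitsOfShape_of_evaluation _ J fun c => ?_
  rcases isEmpty_or_nonempty (U.obj c) with hc | hc
  · exact preservesLimitsOfShape_of_natIso
      (NatIso.ofComponents (fun X => @asIso _ _ _ _ ((pEta U X).app c) (isIso_pEta_app U hc))
        (fun {X Y} m => congr($(pEta_naturality U m).app c).symm) :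
        (evaluation Cᵒᵖ (Type u)).obj c ≅ pFun U ⋙ (evaluation Cᵒᵖ (Type u)).obj c)
  · refine ⟨fun {K} => ⟨fun {s} _ => ⟨?_⟩⟩⟩
    have hne : ∀ X : Cᵒᵖ ⥤ Type u, Nonempty (PObj U X c) := fun X => ⟨Sum.inl ⟨hc⟩⟩
    exact
      { lift := fun t => ↾fun _ => (hne s.pt).some
        fac := fun t j => by
          ext z
          exact Subsingleton.elim (α := PObj U (K.obj j) c) _ _
        uniq := fun t m _ => by
          ext z
          exact Subsingleton.elim (α := PObj U s.pt c) _ _ }⟩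

omit hU in
/-- If `m` is bijective over `U`, the naturality square of `η` is cartesian. -/
theorem isPullback_pEta {X Y : Cᵒᵖ ⥤ Type u} (m : X ⟶ Y)
    (hm : ∀ c, Nonempty (U.obj c) → Function.Bijective (m.app c)) :
    IsPullback m (pEta U X) (pEta U Y) ((pFun U).map m) := by
  refine IsPullback.of_forall_isPullback_app fun c => ?_
  have w : m.app c ≫ (pEta U Y).app c = (pEta U X).app c ≫ ((pFun U).map m).app c :=
    congr($(pEta_naturality U m).app c).symm
  rcases isEmpty_or_nonempty (U.obj c) with hc | hc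
  · haveI := isIso_pEta_app U (X := X) hc
    haveI := isIso_pEta_app U (X := Y) hc
    exact IsPullback.of_vert_isIso ⟨w⟩
  · haveI : IsIso (m.app c) := (isIso_iff_bijective _).2 (hm c hc)
    have hP : IsIso (((pFun U).map m).app c) := (isIso_iff_bijective _).2
      ⟨fun a b _ => Subsingleton.elim (α := PObj U X c) a b,
        fun b => ⟨Sum.inl ⟨hc⟩, Subsingleton.elim (α := PObj U Y c) _ _⟩⟩
    exact @IsPullback.of_horiz_isIso _ _ _ _ _ _ _ _ _ _ this hP ⟨w⟩

end Groth.Agent.OpenClosed
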